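import Mathlib.AlgebraicGeometry.Morphisms.UniversallyClosed
import Mathlib.AlgebraicGeometry.Morphisms.Finite
import Mathlib.AlgebraicGeometry.Gluing
import Mathlib.AlgebraicGeometry.AffineScheme
import Mathlib.AlgebraicGeometry.Restrict
import Mathlib.AlgebraicGeometry.Properties

/-!
# Factorisation through closed surjections injective on functions
-/

set_option backward.isDefEq.respectTransparency false
set_option autoImplicit false
set_option linter.all false

universe u

open CategoryTheory CategoryTheory.Limits AlgebraicGeometry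

namespace GrothLib.GenusZeroDesc9

variable {X Y Z : Scheme.{u}} (g : X ⟶ Y)

theorem app_injective_of_surjective [IsReduced Y] [Surjective g] (W : Y.Opens) :
    Function.Injective (g.app W) := by
  refine (injective_iff_map_eq_zero (g.app W).hom).2 fun s hs => ?_
  refine (basicOpen_eq_bot_iff s).1 (eq_bot_iff.2 fun y hy => ?_)
  obtain ⟨x, rfl⟩ := g.surjective y
  have h : x ∈ g ⁻¹ᵁ Y.basicOpen s := hy
  rw [Scheme.preimage_basicOpen, show (g.app W) s = 0 from hs, Scheme.basicOpen_zero] at h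
  exact h

theorem restrict_app_injective (hinj : ∀ W : Y.Opens, Function.Injective (g.app W)) (V : Y.Opens)
    (W : V.toScheme.Opens) : Function.Injective ((g ∣_ V).app W) := by
  rw [morphismRestrict_app]
  show Function.Injective (fun a => X.presheaf.map (eqToHom (image_morphismRestrict_preimage g V W)).op (g.app (V.ι ''ᵁ W) a))
  exact (ConcreteCategory.bijective_of_isIso (X.presheaf.map (eqToHom (image_morphismRestrict_preimage g V W)).op)).1.comp (hinj _)

theorem hom_ext_of_injective (hinj : ∀ W : Y.Opens, Function.Injective (g.app W)) (hsurj : Function.Surjective g)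
    {k k' : Y ⟶ Z} (h : g ≫ k = g ≫ k') : k = k' := by
  have hbase : ∀ y, k y = k' y := fun y => by
    obtain ⟨x, rfl⟩ := hsurj y
    rw [← Scheme.Hom.comp_apply, h, Scheme.Hom.comp_apply]
  refine Scheme.hom_ext_of_forall _ _ fun y => ?_
  obtain ⟨U, hU, hyU, -⟩ := exists_isAffineOpen_mem_and_subset (show k y ∈ (⊤ : Z.Opens) from trivial)
  let W : Y.Opens := k ⁻¹ᵁ U
  have hle' : W ≤ k' ⁻¹ᵁ U := fun z hz => by
    show k' z ∈ U
    rw [← hbase]
    exact hz
  refine ⟨W, hyU, ?_⟩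
  have key : ∀ (f : Y ⟶ Z) (e : W ≤ f ⁻¹ᵁ U), W.toSpecΓ ≫ Spec.map (f.appLE U W e) ≫ hU.fromSpec = W.ι ≫ f :=
    fun f e => by
      rw [Scheme.Opens.toSpecΓ_SpecMap_appLE_assoc, IsAffineOpen.fromSpec, ← hU.isoSpec_hom,
        Iso.hom_inv_id_assoc, Scheme.Hom.resLE_comp_ι]
  rw [← key k le_rfl, ← key k' hle']
  haveI : Mono (g.app W) := ConcreteCategory.mono_of_injective _ (hinj W)
  congr 3
  rw [← cancel_mono (g.app W), Scheme.Hom.app_eq_appLE, Scheme.Hom.appLE_comp_appLE,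
    Scheme.Hom.appLE_comp_appLE]
  congr 1

/-- Descent of a morphism constant on fibres whose functions descend. -/
theorem exists_desc (hinj : ∀ W : Y.Opens, Function.Injective (g.app W)) (hsurj : Function.Surjective g)
    (hclosed : IsClosedMap g) (h : X ⟶ Z)
    (hconst : ∀ p q : X, g p = g q → h p = h q)
    (hmem : ∀ (U : Z.Opens) (W : Y.Opens) (e : g ⁻¹ᵁ W ≤ h ⁻¹ᵁ U) (s : Γ(Z, U)),
      ∃ r, g.app W r = h.appLE U (g ⁻¹ᵁ W) e s) : ∃ k : Y ⟶ Z, g ≫ k = h := by
  choose s hs using hsurj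
  have hsh : ∀ x, h (s (g x)) = h x := fun x => hconst _ _ (hs _)
  choose U hU hyU hU' using fun y => exists_isAffineOpen_mem_and_subset (show h (s y) ∈ (⊤ : Z.Opens) from trivial)
  let W : Y → Y.Opens := fun y =>
    ⟨(g '' (h ⁻¹' (U y : Set Z))ᶜ)ᶜ, (hclosed _ ((U y).2.preimage h.continuous).isClosed_compl).isOpen_compl⟩
  have hyW : ∀ y, y ∈ W y := fun y => by
    rintro ⟨x, hx, rfl⟩
    refine hx ?_
    have := hyU (g x)
    rw [hsh] at this
    exact this
  have hpre : ∀ y, g ⁻¹ᵁ W y ≤ h ⁻¹ᵁ U y := fun y x hx => by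
    by_contra hxU
    exact hx ⟨x, hxU, rfl⟩
  choose R hR using fun y (a : Γ(Z, U y)) => hmem (U y) (W y) (hpre y) a
  let ρ : ∀ y, Γ(Z, U y) ⟶ Γ(Y, W y) := fun y => CommRingCat.ofHom
    { toFun := R y
      map_one' := hinj _ (by rw [hR, map_one, map_one])
      map_mul' := fun a b => hinj _ (by rw [hR, map_mul, map_mul, hR, hR])
      map_zero' := hinj _ (by rw [hR, map_zero, map_zero])
      map_add' := fun a b => hinj _ (by rw [hR, map_add, map_add, hR, hR]) }
  have hρ : ∀ y, ρ y ≫ g.app (W y) = h.appLE (U y) (g ⁻¹ᵁ W y) (hpre y) := fun y =>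
    CommRingCat.hom_ext (RingHom.ext fun a => hR y a)
  let k : ∀ y, (W y : Scheme.{u}) ⟶ Z := fun y => (W y).toSpecΓ ≫ Spec.map (ρ y) ≫ (hU y).fromSpec
  have hk : ∀ y, (g ∣_ W y) ≫ k y = (g ⁻¹ᵁ W y).ι ≫ h := fun y => by
    simp only [k]
    rw [← Scheme.Opens.toSpecΓ_naturality_assoc, ← Spec.map_comp_assoc, hρ,
      Scheme.Opens.toSpecΓ_SpecMap_appLE_assoc,
      IsAffineOpen.fromSpec, ← (hU y).isoSpec_hom, Iso.hom_inv_id_assoc, Scheme.Hom.resLE_comp_ι]
  have htop : TopologicalSpace.IsOpenCover W :=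
    TopologicalSpace.IsOpenCover.mk (top_le_iff.1 fun y _ => TopologicalSpace.Opens.mem_iSup.2 ⟨y, hyW y⟩)
  have hcompat : ∀ i j, pullback.fst (W i).ι (W j).ι ≫ k i = pullback.snd (W i).ι (W j).ι ≫ k j := by
    intro i j
    have h1 : Y.homOfLE (inf_le_left : W i ⊓ W j ≤ W i) ≫ k i = Y.homOfLE (inf_le_right : W i ⊓ W j ≤ W j) ≫ k j := by
      refine hom_ext_of_injective (g ∣_ (W i ⊓ W j)) (restrict_app_injective g hinj _) ?_ ?_
      · intro z
        obtain ⟨x, hx⟩ := (⟨s z.1, hs z.1⟩ : ∃ x, g x = z.1)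
        refine ⟨⟨x, show g x ∈ W i ⊓ W j from hx ▸ z.2⟩, Subtype.ext ?_⟩
        rw [morphismRestrict_base]
        exact hx
      have aux : ∀ l (hl : W i ⊓ W j ≤ W l), g ∣_ (W i ⊓ W j) ≫ Y.homOfLE hl ≫ k l = (g ⁻¹ᵁ (W i ⊓ W j)).ι ≫ h := by
        intro l hl
        have e : g ∣_ (W i ⊓ W j) ≫ Y.homOfLE hl = X.homOfLE (fun x hx => hl hx) ≫ g ∣_ W l := by
          rw [← cancel_mono (W l).ι]
          simp only [Category.assoc, Scheme.homOfLE_ι, morphismRestrict_ι, Scheme.homOfLE_ι_assoc]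
        rw [reassoc_of% e, hk l, Scheme.homOfLE_ι_assoc]
      rw [aux i inf_le_left, aux j inf_le_right]
    let t : pullback (W i).ι (W j).ι ⟶ (W i ⊓ W j : Y.Opens).toScheme :=
      IsOpenImmersion.lift (W i ⊓ W j : Y.Opens).ι (pullback.fst _ _ ≫ (W i).ι) (by
        rintro _ ⟨z, rfl⟩
        rw [Scheme.Opens.range_ι]
        refine ⟨(pullback.fst (W i).ι (W j).ι z).2, ?_⟩
        rw [pullback.condition]
        exact (pullback.snd (W i).ι (W j).ι z).2)
    have t1 : t ≫ Y.homOfLE inf_le_left = pullback.fst _ _ := by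
      rw [← cancel_mono (W i).ι, Category.assoc, Scheme.homOfLE_ι]
      exact IsOpenImmersion.lift_fac _ _ _
    have t2 : t ≫ Y.homOfLE inf_le_right = pullback.snd _ _ := by
      rw [← cancel_mono (W j).ι, Category.assoc, Scheme.homOfLE_ι, ← pullback.condition]
      exact IsOpenImmersion.lift_fac _ _ _
    rw [← t1, ← t2, Category.assoc, Category.assoc, h1]
  refine ⟨(Y.openCoverOfIsOpenCover W htop).glueMorphisms k hcompat, ?_⟩
  refine Scheme.hom_ext_of_forall _ _ fun x => ⟨g ⁻¹ᵁ W (g x), hyW (g x), ?_⟩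
  rw [← morphismRestrict_ι_assoc]
  have := (Y.openCoverOfIsOpenCover W htop).ι_glueMorphisms k hcompat (g x)
  change (W (g x)).ι ≫ _ = _ at this
  rw [this, hk]

end GrothLib.GenusZeroDesc9
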