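import Groth.Agent.Lib.GenusZeroDesc9.Desc
import Groth.Agent.Lib.CurveMult.SepRat
import Groth.Agent.Lib.RedSmooth.Basic
import Groth.Agent.Lib.Euler.Vanish
import Groth.Agent.Lib.Euler.Coh
import Groth.Agent.Lib.ClopenDec11.ZeroEuler
import Groth.Agent.Lib.QCoh.Extension
import Groth.Agent.Lib.QCoh.Killed
import Groth.Agent.Lib.FinCov.FrameFree
import Groth.Agent.Lib.Cohom.LinearLES
import Groth.Agent.Lib.FinAff13.Poles
import Groth.Agent.Lib.QCoh.GenericPoint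
import Groth.Agent.Lib.CMFree.Regular

/-!
# Curves of genus zero and their normalisations
-/

set_option autoImplicit false
set_option linter.all false
set_option backward.isDefEq.respectTransparency false
set_option maxHeartbeats 1000000

universe u

open CategoryTheory CategoryTheory.Limits AlgebraicGeometry TopologicalSpace Opposite
open GrothLib.Ample (res)

noncomputable section

namespace GrothLib.GenusZeroDesc9

variable (k : Type u) [Field k]

theorem finite_generic {T : Scheme.{u}} [IsNoetherian T] : (genericPoints (T : Type u)).Finite := by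
  refine ((NoetherianSpace.finite_irreducibleComponents (α := T)).preimage fun a ha b hb h => ?_).subset
    fun z hz => (show z ∈ (fun z => closure ({z} : Set T)) ⁻¹' irreducibleComponents (T : Type u) from hz)
  exact ((isGenericPoint_closure).eq (by rw [IsGenericPoint]; exact h.symm))

theorem exists_generic_specializes {T : Scheme.{u}} (z : T) : ∃ ξ ∈ genericPoints (T : Type u), ξ ⤳ z := by
  have hirr : IsIrreducible (irreducibleComponent z) := isIrreducible_irreducibleComponent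
  obtain ⟨ξ, hξ⟩ := QuasiSober.sober hirr isClosed_irreducibleComponent
  refine ⟨ξ, ?_, hξ.specializes mem_irreducibleComponent⟩
  show closure {ξ} ∈ irreducibleComponents (T : Type u)
  rw [hξ.def]
  exact irreducibleComponent_mem_irreducibleComponents z

theorem mem_of_dense {T : Scheme.{u}} [IsNoetherian T] {U : T.Opens} (hU : Dense (U : Set T)) {x : T}
    (hx : x ∈ genericPoints (T : Type u)) : x ∈ U := by
  let G : Set T := ⋃ z ∈ {z | z ∈ genericPoints (T : Type u) ∧ z ≠ x}, closure ({z} : Set T)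
  have hG : IsClosed G := (finite_generic.subset fun z hz => hz.1).isClosed_biUnion fun z _ => isClosed_closure
  have hxG : x ∉ G := fun h => by
    obtain ⟨z, ⟨hz, hzx⟩, hxz⟩ := Set.mem_iUnion₂.1 h
    exact hzx (FinAff13.mem_genericPoints_iff.1 hx z (specializes_iff_mem_closure.2 hxz))
  obtain ⟨w, hwG, hwU⟩ := hU.inter_open_nonempty Gᶜ hG.isOpen_compl ⟨x, hxG⟩
  obtain ⟨ξ, hξ, hξw⟩ := exists_generic_specializes w
  by_cases h : ξ = x
  · exact h ▸ hξw.mem_open U.2 hwU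
  · exact absurd (Set.mem_iUnion₂.2 ⟨ξ, ⟨hξ, h⟩, specializes_iff_mem_closure.1 hξw⟩) hwG

section Values

variable {X : Scheme.{u}} [X.Over (Spec (CommRingCat.of k))]

/-- The constants. -/
def cc (V : X.Opens) : k →+* Γ(X, V) :=
  (res (le_top : V ≤ ⊤)).comp (Coh.toGlobal (X ↘ Spec (CommRingCat.of k)))

theorem germ_cc (V : X.Opens) (y : X) (hy : y ∈ V) (t : k) :
    X.presheaf.germ V y hy (cc k V t) = Curv2.stalkMap k X y t :=
  X.presheaf.germ_res_apply (homOfLE (le_top : V ≤ ⊤)) y hy _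

/-- The value of a function at a point is `t`. -/
def HasVal {V : X.Opens} (g : Γ(X, V)) (y : X) (t : k) : Prop :=
  ∃ hy : y ∈ V, X.presheaf.germ V y hy g - Curv2.stalkMap k X y t ∈ IsLocalRing.maximalIdeal _

variable {k}

theorem HasVal.sub {V : X.Opens} {g g' : Γ(X, V)} {y : X} {t t' : k} (h : HasVal k g y t) (h' : HasVal k g' y t') :
    HasVal k (g - g') y (t - t') := by
  obtain ⟨hy, h⟩ := h
  obtain ⟨_, h'⟩ := h'
  refine ⟨hy, ?_⟩
  rw [map_sub, map_sub, sub_sub_sub_comm]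
  exact Ideal.sub_mem _ h h'

theorem HasVal.unique {V : X.Opens} {g : Γ(X, V)} {y : X} {t t' : k} (h : HasVal k g y t) (h' : HasVal k g y t') :
    t = t' := by
  obtain ⟨hy, h⟩ := h
  obtain ⟨_, h'⟩ := h'
  by_contra hne
  have hu : IsUnit (Curv2.stalkMap k X y (t - t')) := (Ne.isUnit (sub_ne_zero.2 hne)).map _
  refine (IsLocalRing.mem_maximalIdeal _).1 ?_ hu
  have := Ideal.sub_mem _ h' h
  rwa [sub_sub_sub_cancel_left, ← map_sub] at this

theorem hasVal_res {V W : X.Opens} (hWV : W ≤ V) {g : Γ(X, V)} {y : X} (hy : y ∈ W) {t : k} :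
    HasVal k (res hWV g) y t ↔ HasVal k g y t :=
  ⟨fun ⟨_, h⟩ => ⟨hWV hy, by rwa [show X.presheaf.germ W y hy (res hWV g) = X.presheaf.germ V y (hWV hy) g from
      X.presheaf.germ_res_apply (homOfLE hWV) y hy g] at h⟩,
    fun ⟨_, h⟩ => ⟨hy, by rwa [show X.presheaf.germ W y hy (res hWV g) = X.presheaf.germ V y (hWV hy) g from
      X.presheaf.germ_res_apply (homOfLE hWV) y hy g]⟩⟩

theorem hasVal_cc {V : X.Opens} {y : X} (hy : y ∈ V) (t : k) : HasVal k (cc k V t) y t :=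
  ⟨hy, by rw [germ_cc, sub_self]; exact zero_mem _⟩

theorem hasVal_zero_iff {V : X.Opens} {g : Γ(X, V)} {y : X} (hy : y ∈ V) :
    HasVal k g y 0 ↔ y ∉ X.basicOpen g := by
  rw [X.mem_basicOpen _ y hy]
  constructor
  · rintro ⟨_, h⟩
    rw [map_zero, sub_zero] at h
    exact (IsLocalRing.mem_maximalIdeal _).1 h
  · intro h
    exact ⟨hy, by rw [map_zero, sub_zero]; exact (IsLocalRing.mem_maximalIdeal _).2 h⟩

variable (k)

theorem exists_val [IsAlgClosed k] [LocallyOfFiniteType (X ↘ Spec (CommRingCat.of k))] {V : X.Opens} (g : Γ(X, V))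
    {y : X} (hy : y ∈ V) (hcl : IsClosed ({y} : Set X)) : ∃ t : k, HasVal k g y t := by
  have hrat : Function.Surjective (Curv2.resMap k X y) := by
    have h := (CurveMult.bijective_resMap_of_section k (pointOfClosedPoint (X ↘ Spec (CommRingCat.of k)) y hcl)
      (pointOfClosedPoint_comp (X ↘ Spec (CommRingCat.of k)) y hcl) (IsLocalRing.closedPoint k)).2
    rwa [pointOfClosedPoint_apply] at h
  obtain ⟨t, ht⟩ := hrat (X.residue y (X.presheaf.germ V y hy g))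
  refine ⟨t, hy, (IsLocalRing.residue_eq_zero_iff _).1 ?_⟩
  rw [map_sub, sub_eq_zero]
  exact ht.symm

/-- A global function is constant near each point. -/
theorem exists_nhd_const [IsProper (X ↘ Spec (CommRingCat.of k))] [IsReduced X]
    (e : Γ(X, ⊤)) {y : X} {a : k} (h : HasVal k e y a) :
    ∃ N : X.Opens, y ∈ N ∧ res (le_top : N ≤ ⊤) e = cc k N a := by
  haveI := Euler.isNoetherian_of_proper (X := X) k
  haveI := Euler.finiteDimensional_HH k (Euler.isCoh_of_isInvertible (Euler.isInvertible_structure (X := X))) 0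
  letI : Algebra k Γ(X, ⊤) := (Coh.toGlobal (X ↘ Spec (CommRingCat.of k))).toAlgebra
  have hsm : ∀ (r : k) (g : Γ(X, ⊤)), r • g = (show Γ(X, ⊤) from Coh.toGlobal (X ↘ Spec (CommRingCat.of k)) r) * g :=
    fun r g => Algebra.smul_def r g
  let ev : Coh.HH X (Coh.structureModule X) 0 → Γ(X, ⊤) := fun x => ProjCoh.H0top (Coh.structureModule X) x
  have hadd : ∀ x x', ev (x + x') = ev x + ev x' := fun x x' => map_add _ x x'
  have hsmul : ∀ (r : k) x, ev (r • x) = r • ev x := fun r x =>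
    (ProjCoh.H0top_smul _ r x).trans (hsm r (ev x)).symm
  have hsurj : Function.Surjective ev := (ProjCoh.H0top (Coh.structureModule X)).surjective
  clear_value ev
  haveI : Module.Finite k Γ(X, ⊤) :=
    Module.Finite.of_surjective ({ toFun := ev, map_add' := hadd, map_smul' := hsmul } : _ →ₗ[k] Γ(X, ⊤)) hsurj
  let g : Γ(X, ⊤) := e - algebraMap k Γ(X, ⊤) a
  have hg : HasVal k g y 0 := by
    have := h.sub (hasVal_cc (k := k) (V := (⊤ : X.Opens)) h.1 a)
    rwa [sub_self, show cc k (⊤ : X.Opens) a = algebraMap k Γ(X, ⊤) a from GrothLib.Ample.res_self _ _] at this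
  obtain ⟨P, hP, hPg⟩ := Algebra.IsIntegral.isIntegral (R := k) g
  obtain ⟨m, Q, hQP, hQ0⟩ : ∃ (m : ℕ) (Q : Polynomial k), P = Polynomial.X ^ m * Q ∧ ¬ Polynomial.X ∣ Q := by
    obtain ⟨Q, hQ, hQ'⟩ := Polynomial.exists_eq_pow_rootMultiplicity_mul_and_not_dvd P hP.ne_zero 0
    rw [map_zero, sub_zero] at hQ hQ'
    exact ⟨_, Q, hQ, hQ'⟩
  rw [Polynomial.X_dvd_iff] at hQ0
  obtain ⟨hy, hgy⟩ := hg
  rw [map_zero, sub_zero] at hgy
  let γ := (X.presheaf.germ ⊤ y hy).hom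
  have hu : IsUnit (γ (Polynomial.aeval g Q)) := by
    by_contra hnu
    have hmem : γ (Polynomial.aeval g Q) ∈ IsLocalRing.maximalIdeal _ := (IsLocalRing.mem_maximalIdeal _).2 hnu
    rw [← Polynomial.X_mul_divX_add Q, map_add, map_mul, Polynomial.aeval_X, Polynomial.aeval_C, map_add,
      map_mul] at hmem
    have h0 : γ (algebraMap k Γ(X, ⊤) (Q.coeff 0)) ∈ IsLocalRing.maximalIdeal _ := by
      have := Ideal.sub_mem _ hmem (Ideal.mul_mem_right (γ (Polynomial.aeval g Q.divX)) _ hgy)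
      rwa [add_sub_cancel_left] at this
    exact (IsLocalRing.mem_maximalIdeal _).1 h0 (((Ne.isUnit hQ0).map _).map _)
  have h1 : γ g ^ m * γ (Polynomial.aeval g Q) = 0 := by
    rw [← map_pow, ← map_mul]
    have : Polynomial.aeval g P = 0 := hPg
    rw [hQP, map_mul, map_pow, Polynomial.aeval_X] at this
    rw [this, map_zero]
  have h2 : γ g = 0 := by
    have h3 : γ g ^ m = 0 := (hu.mul_left_eq_zero).1 h1
    exact IsReduced.eq_zero _ ⟨m, h3⟩
  obtain ⟨N, hyN, i, _, hN⟩ := X.presheaf.germ_eq y hy hy g 0 (by rw [map_zero]; exact h2)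
  refine ⟨N, hyN, sub_eq_zero.1 ?_⟩
  rw [map_zero] at hN
  rw [← hN, show X.presheaf.map i.op g = res (le_top : N ≤ ⊤) g from rfl, map_sub]
  congr 1

variable {k}

theorem toGlobal_app {Y : Scheme.{u}} [Y.Over (Spec (CommRingCat.of k))] (f : X ⟶ Y)
    (hf : f ≫ (Y ↘ Spec (CommRingCat.of k)) = X ↘ Spec (CommRingCat.of k)) (V : Y.Opens) (t : k) :
    f.app V (cc k V t) = cc k (f ⁻¹ᵁ V) t := by
  show (Y.presheaf.map (homOfLE (le_top : V ≤ ⊤)).op ≫ f.app V).hom _ = _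
  rw [f.naturality]
  show res _ ((f.app ⊤).hom _) = res _ (Coh.toGlobal _ t)
  rw [← hf]
  rfl

theorem HasVal.pull {Y : Scheme.{u}} [Y.Over (Spec (CommRingCat.of k))] (f : X ⟶ Y)
    (hf : f ≫ (Y ↘ Spec (CommRingCat.of k)) = X ↘ Spec (CommRingCat.of k)) {V : Y.Opens} {g : Γ(Y, V)} {y : X}
    {t : k} (h : HasVal k g (f y) t) : HasVal k (f.app V g) y t := by
  obtain ⟨hy, h⟩ := h
  refine ⟨hy, ?_⟩
  rw [← germ_cc k V (f y) hy, ← map_sub] at h
  rw [← germ_cc k (f ⁻¹ᵁ V) y hy, ← toGlobal_app f hf, ← map_sub, ← map_sub,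
    ← Scheme.Hom.germ_stalkMap_apply f V y hy]
  exact (IsLocalRing.mem_maximalIdeal _).2 fun hu =>
    (IsLocalRing.mem_maximalIdeal _).1 h ((isUnit_map_iff (f.stalkMap y).hom _).1 hu)

end Values

variable [IsAlgClosed k] {C C' : Scheme.{u}} [C.Over (Spec (CommRingCat.of k))]
  [C'.Over (Spec (CommRingCat.of k))] [IsProper (C ↘ Spec (CommRingCat.of k))] [IsReduced C]
  [Smooth (C' ↘ Spec (CommRingCat.of k))] (ν : C' ⟶ C) [IsFinite ν]
  (hν : ν ≫ (C ↘ Spec (CommRingCat.of k)) = C' ↘ Spec (CommRingCat.of k))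
  (hgen : Subsingleton (Coh.HH C (Coh.structureModule C) 1))
  (U : C.Opens) (hU : Dense (U : Set C)) [IsIso (ν ∣_ U)]

variable {k}

include hν in
theorem isClosed_point {y : C'} (h : IsClosed ({ν y} : Set C)) : IsClosed ({y} : Set C') := by
  have hfin : (ν ⁻¹' {ν y}).Finite := ν.finite_preimage_singleton (ν y)
  haveI : LocallyOfFiniteType (C' ↘ Spec (CommRingCat.of k)) := by rw [← hν]; infer_instance
  haveI : JacobsonSpace C' := LocallyOfFiniteType.jacobsonSpace (C' ↘ Spec (CommRingCat.of k))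
  have hy : y ∈ ν ⁻¹' {ν y} := rfl
  haveI := hfin.to_subtype
  haveI : JacobsonSpace ↥(ν ⁻¹' ({ν y} : Set C)) :=
    JacobsonSpace.of_isClosedEmbedding (h.preimage ν.continuous).isClosedEmbedding_subtypeVal
  rw [← Set.image_singleton (f := (Subtype.val : ↥(ν ⁻¹' ({ν y} : Set C)) → C')) (a := ⟨y, hy⟩)]
  exact (h.preimage ν.continuous).isClosedEmbedding_subtypeVal.isClosedMap _ (isClosed_discrete _)

include hU in
theorem surjective : Surjective ν := by
  constructor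
  intro c
  have hsub : (U : Set C) ⊆ Set.range ν := fun z hz => by
    obtain ⟨w, hw⟩ := (ν ∣_ U).surjective ⟨z, hz⟩
    refine ⟨w.1, ?_⟩
    have := congrArg Subtype.val hw
    rwa [morphismRestrict_base] at this
  exact (ν.isClosedMap.isClosed_range.closure_subset_iff.2 hsub) (hU c)

include hν hgen hU in
/-- Locally every function upstairs is a function downstairs plus a global one. -/
theorem local_split (hd : topologicalKrullDim C = 1) {W : C.Opens} (s : Γ(C', ν ⁻¹ᵁ W)) {x : C} (hx : x ∈ W)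
    (hcl : IsClosed ({x} : Set C)) :
    ∃ (V : C.Opens) (hVW : V ≤ W) (b : Γ(C, V)) (e : Γ(C', ⊤)), x ∈ V ∧
      ((V : Set C) \ {x} ⊆ U) ∧
      res (show ν ⁻¹ᵁ V ≤ ν ⁻¹ᵁ W from fun z hz => hVW hz) s = ν.app V b + res (le_top : ν ⁻¹ᵁ V ≤ ⊤) e := by
  haveI := Euler.isNoetherian_of_proper (X := C) k
  haveI := surjective ν U hU
  let D : Set C := ((U : Set C))ᶜ
  have hDfin : D.Finite := Euler.finite_of_closed_points U.isOpen.isClosed_compl fun z hz =>
    Euler.isClosed_singleton_of_notMem_genericPoints hd.le fun hg => hz (mem_of_dense hU hg)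
  have hDx : IsClosed (D \ {x}) := by
    have : D \ {x} = ⋃ z ∈ D \ {x}, {z} := (Set.biUnion_of_singleton _).symm
    rw [this]
    refine (hDfin.subset Set.diff_subset).isClosed_biUnion fun z hz => ?_
    exact Euler.isClosed_singleton_of_notMem_genericPoints hd.le fun hg => hz.1 (mem_of_dense hU hg)
  let V : C.Opens := W ⊓ ⟨(D \ {x})ᶜ, hDx.isOpen_compl⟩
  have hxV : x ∈ V := ⟨hx, fun h => h.2 rfl⟩
  have hVU : (V : Set C) \ {x} ⊆ U := fun z hz => by
    by_contra hzU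
    exact hz.1.2 ⟨hzU, hz.2⟩
  let O' : C.Opens := ⟨({x} : Set C)ᶜ, hcl.isOpen_compl⟩
  let P := (Scheme.Modules.pushforward ν).obj (Coh.structureModule C')
  let α : Coh.structureModule C ⟶ P := FinCov.homOfSection (show Γ(P, ⊤) from FinCov.one C' ⊤)
  have hα : ∀ (T : C.Opens) (r : Γ(C, T)), (show Γ(C', ν ⁻¹ᵁ T) from α.app T r) = ν.app T r := fun T r => by
    have h1 : (show Γ(Coh.structureModule C, T) from r) = r • FinCov.one C T := (mul_one r).symm
    rw [show α.app T (show Γ(Coh.structureModule C, T) from r) =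
        r • α.app T (FinCov.one C T) by conv_lhs => rw [h1, Scheme.Modules.Hom.app_smul],
      FinCov.homOfSection_one]
    show ν.app T r * res _ (1 : Γ(C', ⊤)) = _
    rw [map_one, mul_one]
  haveI : Mono α := QCoh.mono_of_app_injective α fun T a b hab => by
    refine app_injective_of_surjective ν T ?_
    rw [← hα, ← hα]; exact hab
  let π := cokernel.π α
  have hS : (ShortComplex.mk α π (cokernel.condition α)).ShortExact :=
    { exact := ShortComplex.exact_of_g_is_cokernel _ (cokernelIsCokernel α) }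
  have hz : ∀ T : C.Opens, T ≤ U → ∀ c : Γ(cokernel α, T), c = 0 := fun T hT c => by
    refine QCoh.section_eq_zero_of_germ _ c fun z hz => ?_
    refine @Subsingleton.elim _ (QCoh.stalk_subsingleton_of_notMem
      (QCoh.notMem_support_cokernel_of_surjective α ?_)) _ _
    refine (Euler.stalkLin_bijective_of_app_bijective α (hT hz) fun T' hT' => ?_).2
    haveI : IsIso (ν.app T') := by
      have h := morphismRestrict_app ν U (U.ι ⁻¹ᵁ T')
      haveI : IsIso ((ν ∣_ U).app (U.ι ⁻¹ᵁ T')) := inferInstance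
      rw [h] at this
      haveI := this
      have h2 : IsIso (ν.app (U.ι ''ᵁ U.ι ⁻¹ᵁ T')) := IsIso.of_isIso_comp_right (ν.app (U.ι ''ᵁ U.ι ⁻¹ᵁ T'))
        (C'.presheaf.map (eqToHom (image_morphismRestrict_preimage ν U (U.ι ⁻¹ᵁ T'))).op)
      rwa [Scheme.Hom.image_preimage_eq_opensRange_inf, Scheme.Opens.opensRange_ι, inf_eq_right.2 hT'] at h2
    have hb := ConcreteCategory.bijective_of_isIso (ν.app T')
    refine ⟨fun a b hab => hb.1 ?_, fun c => ?_⟩
    · rw [← hα, ← hα]; exact hab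
    · obtain ⟨a, ha⟩ := hb.2 (show Γ(C', ν ⁻¹ᵁ T') from c)
      exact ⟨a, (hα T' a).trans ha⟩
  let sV : Γ(P, V) := res (show ν ⁻¹ᵁ V ≤ ν ⁻¹ᵁ W from fun z hz => hz.1) s
  obtain ⟨cc₀, hcc⟩ : ∃ cc₀ : Γ(cokernel α, ⊤),
      (cokernel α).presheaf.map (homOfLE (le_top : V ≤ ⊤)).op cc₀ = π.app V sV := by
    let O : Bool → C.Opens := fun q => if q then V else O'
    let sf : ∀ q : Bool, Γ(cokernel α, O q) := fun q => match q with
      | true => π.app V sV
      | false => 0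
    obtain ⟨c₀, hc₀, -⟩ := TopCat.Sheaf.existsUnique_gluing' ⟨(cokernel α).presheaf, (cokernel α).isSheaf⟩ O ⊤
      (fun q => homOfLE le_top) (fun z _ => by
        by_cases hzx : z = x
        · exact Opens.mem_iSup.2 ⟨true, hzx ▸ hxV⟩
        · exact Opens.mem_iSup.2 ⟨false, hzx⟩) sf (by
        intro p q
        cases p <;> cases q
        · rfl
        · exact (hz (O' ⊓ V) (fun w hw => hVU ⟨hw.2, hw.1⟩) _).trans (hz (O' ⊓ V) (fun w hw => hVU ⟨hw.2, hw.1⟩) _).symm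
        · exact (hz (V ⊓ O') (fun w hw => hVU ⟨hw.1, hw.2⟩) _).trans (hz (V ⊓ O') (fun w hw => hVU ⟨hw.1, hw.2⟩) _).symm
        · rfl)
    exact ⟨c₀, hc₀ true⟩
  obtain ⟨e', he'⟩ := (Cohom.exact₃ (A := k) hS 0 ((ProjCoh.H0top (cokernel α)).symm cc₀)).1
    (@Subsingleton.elim _ hgen _ _)
  let e : Γ(P, ⊤) := ProjCoh.H0top P e'
  have he : π.app ⊤ e = cc₀ := by
    have h := congrArg (ProjCoh.H0top (cokernel α)) he'
    rw [AddEquiv.apply_symm_apply] at h
    exact (ProjCoh.H0top_map ((QCoh.toAbFun _).map π) e').symm.trans h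
  have hker : π.app V (sV - P.presheaf.map (homOfLE (le_top : V ≤ ⊤)).op e) = 0 := by
    rw [map_sub, ← hcc, ← he, QCoh.map_app]
    exact sub_self _
  obtain ⟨b, hb⟩ := QCoh.app_exact hS V _ hker
  refine ⟨V, inf_le_left, b, e, hxV, hVU, ?_⟩
  rw [← hα V b]
  exact (eq_add_of_sub_eq hb.symm : sV = α.app V b + P.presheaf.map (homOfLE (le_top : V ≤ ⊤)).op e)

include hν hgen hU in
/-- **Criterion**: functions constant on a fibre come from below. -/
theorem exists_preimage_near (hd : topologicalKrullDim C = 1) {W : C.Opens} (s : Γ(C', ν ⁻¹ᵁ W)) {x : C}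
    (hx : x ∈ W) (hcl : IsClosed ({x} : Set C)) (t : k) (hs : ∀ y, ν y = x → HasVal k s y t) :
    ∃ (V : C.Opens) (hVW : V ≤ W), x ∈ V ∧ ∃ b : Γ(C, V),
      ν.app V b = res (show ν ⁻¹ᵁ V ≤ ν ⁻¹ᵁ W from fun z hz => hVW hz) s := by
  haveI : LocallyOfFiniteType (C' ↘ Spec (CommRingCat.of k)) := by rw [← hν]; infer_instance
  haveI : IsProper (C' ↘ Spec (CommRingCat.of k)) := by rw [← hν]; infer_instance
  haveI : IsReduced C' := RedSmooth.isReduced_of_smooth (C' ↘ Spec (CommRingCat.of k))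
  obtain ⟨V, hVW, b, e, hxV, -, hsplit⟩ := local_split ν hν hgen U hU hd s hx hcl
  obtain ⟨tb, htb⟩ := exists_val k b hxV hcl
  have hloc : ∀ y, ν y = x → ∃ N : C'.Opens, y ∈ N ∧ res (le_top : N ≤ ⊤) e = cc k N (t - tb) := by
    intro y hy
    refine exists_nhd_const k e ?_
    have hyV : y ∈ ν ⁻¹ᵁ V := show ν y ∈ V from hy ▸ hxV
    refine (hasVal_res (le_top : ν ⁻¹ᵁ V ≤ ⊤) hyV).1 ?_
    rw [show res (le_top : ν ⁻¹ᵁ V ≤ ⊤) e = res (show ν ⁻¹ᵁ V ≤ ν ⁻¹ᵁ W from fun z hz => hVW hz) s - ν.app V b from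
      eq_sub_of_add_eq' hsplit.symm]
    exact ((hasVal_res _ hyV).2 (hs y hy)).sub (HasVal.pull ν hν (hy.symm ▸ htb))
  let Nall : C'.Opens := sSup {N | res (le_top : N ≤ ⊤) e = cc k N (t - tb)}
  have hNall : res (le_top : Nall ≤ ⊤) e = cc k Nall (t - tb) := by
    refine C'.sheaf.eq_of_locally_eq' (fun N : {N : C'.Opens // res (le_top : N ≤ ⊤) e = cc k N (t - tb)} => N.1) Nall
      (fun N => homOfLE (le_sSup N.2)) (fun z hz => ?_) _ _ fun N => ?_
    · obtain ⟨N, hN, hzN⟩ := Opens.mem_sSup.1 hz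
      exact Opens.mem_iSup.2 ⟨⟨N, hN⟩, hzN⟩
    · show res (le_sSup N.2) (res _ e) = res (le_sSup N.2) (cc k Nall _)
      rw [GrothLib.Ample.res_res, N.2]
      exact (GrothLib.Ample.res_res _ _ _).symm
  let T : C.Opens := ⟨(ν '' (Nall : Set C')ᶜ)ᶜ, (ν.isClosedMap _ Nall.isOpen.isClosed_compl).isOpen_compl⟩
  have hxT : x ∈ T := by
    rintro ⟨y, hy, hyx⟩
    obtain ⟨N, hyN, hN⟩ := hloc y hyx
    exact hy (Opens.mem_sSup.2 ⟨N, hN, hyN⟩)
  have hTN : ν ⁻¹ᵁ (V ⊓ T) ≤ Nall := fun z hz => by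
    by_contra hzN
    exact hz.2 ⟨z, hzN, rfl⟩
  refine ⟨V ⊓ T, inf_le_left.trans hVW, ⟨hxV, hxT⟩, res (inf_le_left : V ⊓ T ≤ V) b + cc k (V ⊓ T) (t - tb), ?_⟩
  rw [map_add, toGlobal_app ν hν]
  have h1 : ν.app (V ⊓ T) (res (inf_le_left : V ⊓ T ≤ V) b) =
      res (show ν ⁻¹ᵁ (V ⊓ T) ≤ ν ⁻¹ᵁ V from fun z hz => hz.1) (ν.app V b) :=
    congrArg (fun f => f.hom b) (ν.naturality (homOfLE (inf_le_left : V ⊓ T ≤ V)).op)
  have h2 : cc k (ν ⁻¹ᵁ (V ⊓ T)) (t - tb) = res (le_top : ν ⁻¹ᵁ (V ⊓ T) ≤ ⊤) e := by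
    have := congrArg (res hTN) hNall
    rw [GrothLib.Ample.res_res] at this
    rw [this]
    exact (GrothLib.Ample.res_res _ _ _).symm
  rw [h1, h2]
  have h3 := congrArg (res (show ν ⁻¹ᵁ (V ⊓ T) ≤ ν ⁻¹ᵁ V from fun z hz => hz.1)) hsplit
  rw [map_add, GrothLib.Ample.res_res, GrothLib.Ample.res_res] at h3
  exact h3.symm

include hν hgen hU in
/-- Over a regular point there is one point. -/
theorem fibre_subsingleton (hd : topologicalKrullDim C = 1) (hU' : Dense ((ν ⁻¹ᵁ U : C'.Opens) : Set C'))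
    {x : C} (hcl : IsClosed ({x} : Set C)) (hreg : IsRegularLocalRing (C.presheaf.stalk x))
    {y₁ y₂ : C'} (h₁ : ν y₁ = x) (h₂ : ν y₂ = x) : y₁ = y₂ := by
  haveI := Euler.isNoetherian_of_proper (X := C) k
  haveI : LocallyOfFiniteType (C' ↘ Spec (CommRingCat.of k)) := by rw [← hν]; infer_instance
  haveI : IsProper (C' ↘ Spec (CommRingCat.of k)) := by rw [← hν]; infer_instance
  haveI : IsReduced C' := RedSmooth.isReduced_of_smooth (C' ↘ Spec (CommRingCat.of k))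
  haveI := surjective ν U hU
  by_contra hne
  haveI : IsDomain (C.presheaf.stalk x) := CMFree.isDomain_of_isRegularLocalRing _
  let η : C := C.fromSpecStalk x (⊥ : PrimeSpectrum (C.presheaf.stalk x))
  have hηgen : ∀ z : C, z ⤳ x → η ⤳ z := fun z hz => by
    obtain ⟨q, rfl⟩ := (Scheme.range_fromSpecStalk (x := x)).ge hz
    exact ((PrimeSpectrum.le_iff_specializes _ _).1 bot_le).map (C.fromSpecStalk x).continuous
  let G : Set C := ⋃ z ∈ {z | z ∈ genericPoints (C : Type u) ∧ ¬ z ⤳ x}, closure ({z} : Set C)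
  have hGcl : IsClosed G := ((finite_generic (T := C)).subset fun z hz => hz.1).isClosed_biUnion
    fun z _ => isClosed_closure
  have hxG : x ∉ G := fun hx => by
    obtain ⟨z, hz, hxz⟩ := Set.mem_iUnion₂.1 hx
    exact hz.2 (specializes_iff_mem_closure.2 hxz)
  obtain ⟨W, hW, hxW, hWG⟩ := exists_isAffineOpen_mem_and_subset (x := x) (U := ⟨Gᶜ, hGcl.isOpen_compl⟩) hxG
  have hη : ∀ z ∈ W, η ⤳ z := fun z hz => by
    obtain ⟨ξ, hξ, hξz⟩ := exists_generic_specializes z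
    by_cases hξx : ξ ⤳ x
    · exact (hηgen ξ hξx).trans hξz
    · exact absurd (Set.mem_iUnion₂.2 ⟨ξ, ⟨hξ, hξx⟩, specializes_iff_mem_closure.1 hξz⟩) (hWG hz)
  have hyW : ∀ y, ν y = x → y ∈ ν ⁻¹ᵁ W := fun y hy => show ν y ∈ W from hy ▸ hxW
  have hW' : IsAffineOpen (ν ⁻¹ᵁ W) := hW.preimage ν
  have hc₁ := isClosed_point (k := k) ν hν (h₁.symm ▸ hcl)
  have hc₂ := isClosed_point (k := k) ν hν (h₂.symm ▸ hcl)
  obtain ⟨s, hs₁, hs₂⟩ : ∃ s : Γ(C', ν ⁻¹ᵁ W), y₁ ∈ C'.basicOpen s ∧ y₂ ∉ C'.basicOpen s := by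
    obtain ⟨s, hs, hy₁⟩ := hW'.exists_basicOpen_le (V := ⟨({y₂} : Set C')ᶜ, hc₂.isOpen_compl⟩) ⟨y₁, hne⟩ (hyW y₁ h₁)
    exact ⟨s, hy₁, fun h => hs h rfl⟩
  obtain ⟨V, hVW, b, e, hxV, -, hsplit⟩ := local_split ν hν hgen U hU hd s hxW hcl
  obtain ⟨t₁, ht₁⟩ := exists_val k s (hyW y₁ h₁) hc₁
  obtain ⟨tb, htb⟩ := exists_val k b hxV hcl
  have ht₁0 : t₁ ≠ 0 := fun h0 => (hasVal_zero_iff (k := k) (hyW y₁ h₁)).1 (h0 ▸ ht₁) hs₁
  have hval : ∀ y t, ν y = x → HasVal k s y t → HasVal k e y (t - tb) := by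
    intro y t hy ht
    have hyV : y ∈ ν ⁻¹ᵁ V := show ν y ∈ V from hy ▸ hxV
    refine (hasVal_res (le_top : ν ⁻¹ᵁ V ≤ ⊤) hyV).1 ?_
    rw [show res (le_top : ν ⁻¹ᵁ V ≤ ⊤) e = res (show ν ⁻¹ᵁ V ≤ ν ⁻¹ᵁ W from fun z hz => hVW hz) s - ν.app V b from
      eq_sub_of_add_eq' hsplit.symm]
    exact ((hasVal_res _ hyV).2 ht).sub (HasVal.pull ν hν (hy.symm ▸ htb))
  have h0 : HasVal k s y₂ 0 := (hasVal_zero_iff (k := k) (hyW y₂ h₂)).2 hs₂
  obtain ⟨N₁, hyN₁, hN₁⟩ := exists_nhd_const k e (hval y₁ t₁ h₁ ht₁)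
  obtain ⟨N₂, hyN₂, hN₂⟩ := exists_nhd_const k e (hval y₂ 0 h₂ h0)
  haveI : IsIso (ν ∣_ U) := inferInstance
  have hcommon : ∀ (N : C'.Opens) (y : C'), ν y = x → y ∈ N → ∃ η' ∈ N, ν η' = η ∧ η ∈ U := by
    intro N y hy hyN
    obtain ⟨z, hzN, hzU⟩ := hU'.inter_open_nonempty ((N ⊓ ν ⁻¹ᵁ W : C'.Opens) : Set C') (N ⊓ ν ⁻¹ᵁ W).isOpen
      ⟨y, hyN, hyW y hy⟩
    have hs := hη (ν z) hzN.2
    have hηU : η ∈ U := hs.mem_open U.2 hzU
    obtain ⟨w, hw⟩ := (ν ∣_ U).surjective ⟨η, hηU⟩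
    have hwη : ν w.1 = η := by
      have := congrArg Subtype.val hw
      rwa [morphismRestrict_base] at this
    have hspec : (ν ∣_ U) w ⤳ (ν ∣_ U) ⟨z, hzU⟩ := by
      rw [U.ι.isOpenEmbedding.isInducing.specializes_iff.symm]
      show ((ν ∣_ U) w).1 ⤳ ((ν ∣_ U) ⟨z, hzU⟩).1
      simp only [morphismRestrict_base]
      show ν w.1 ⤳ ν z
      rw [hwη]; exact hs
    have hwz : w ⤳ (⟨z, hzU⟩ : ↥(ν ⁻¹ᵁ U)) :=
      (ν ∣_ U).isOpenEmbedding.isInducing.specializes_iff.1 hspec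
    exact ⟨w.1, ((ν ⁻¹ᵁ U).ι.isOpenEmbedding.isInducing.specializes_iff.2 hwz).mem_open N.2 hzN.1, hwη, hηU⟩
  obtain ⟨η₁, hη₁, hνη₁, hηU⟩ := hcommon N₁ y₁ h₁ hyN₁
  obtain ⟨η₂, hη₂, hνη₂, -⟩ := hcommon N₂ y₂ h₂ hyN₂
  have he : η₁ = η₂ := by
    have h := (ν ∣_ U).isOpenEmbedding.injective (a₁ := (⟨η₁, show ν η₁ ∈ U from hνη₁ ▸ hηU⟩ : ↥(ν ⁻¹ᵁ U)))
      (a₂ := ⟨η₂, show ν η₂ ∈ U from hνη₂ ▸ hηU⟩) (Subtype.ext (by
        simp only [morphismRestrict_base]; exact hνη₁.trans hνη₂.symm))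
    exact congrArg Subtype.val h
  subst he
  have e₁ : HasVal k e η₁ (t₁ - tb) := (hasVal_res (le_top : N₁ ≤ ⊤) hη₁).1 (hN₁ ▸ hasVal_cc hη₁ _)
  have e₂ : HasVal k e η₁ (0 - tb) := (hasVal_res (le_top : N₂ ≤ ⊤) hη₂).1 (hN₂ ▸ hasVal_cc hη₂ _)
  exact ht₁0 (sub_left_injective (e₁.unique e₂))

include hν hgen hU in
/-- Descent of a morphism over `k` fixing the points over singular points. -/
theorem exists_descend (hd : topologicalKrullDim C = 1) (hU' : Dense ((ν ⁻¹ᵁ U : C'.Opens) : Set C'))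
    (ψ : C' ⟶ C') (hψ : ψ ≫ (C' ↘ Spec (CommRingCat.of k)) = C' ↘ Spec (CommRingCat.of k))
    (hfix : ∀ y : C', ¬ IsRegularLocalRing (C.presheaf.stalk (ν y)) → ψ y = y) :
    ∃ φ : C ⟶ C, ν ≫ φ = ψ ≫ ν := by
  haveI := surjective ν U hU
  haveI : LocallyOfFiniteType (C' ↘ Spec (CommRingCat.of k)) := by rw [← hν]; infer_instance
  haveI : IsProper (C' ↘ Spec (CommRingCat.of k)) := by rw [← hν]; infer_instance
  haveI : IsProper (ψ ≫ (C' ↘ Spec (CommRingCat.of k))) := by rw [hψ]; infer_instance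
  haveI : IsProper ψ := IsProper.of_comp ψ (C' ↘ Spec (CommRingCat.of k))
  haveI : JacobsonSpace C := LocallyOfFiniteType.jacobsonSpace (C ↘ Spec (CommRingCat.of k))
  have hconst' : ∀ (x : C), IsClosed ({x} : Set C) → ∀ y y', ν y = x → ν y' = x → ν (ψ y) = ν (ψ y') := by
    intro x hcl y y' hy hy'
    by_cases hreg : IsRegularLocalRing (C.presheaf.stalk x)
    · rw [fibre_subsingleton ν hν hgen U hU hd hU' hcl hreg hy hy']
    · rw [hfix y (hy.symm ▸ hreg), hfix y' (hy'.symm ▸ hreg), hy, hy']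
  refine exists_desc ν (app_injective_of_surjective ν) ν.surjective ν.isClosedMap (ψ ≫ ν) ?_ ?_
  · intro p q hpq
    by_cases hcl : IsClosed ({ν p} : Set C)
    · simpa only [Scheme.Hom.comp_apply] using hconst' (ν p) hcl p q rfl hpq.symm
    · haveI := Euler.isNoetherian_of_proper (X := C) k
      have hg : ν p ∈ genericPoints (C : Type u) := by
        by_contra h
        exact hcl (Euler.isClosed_singleton_of_notMem_genericPoints hd.le h)
      have hpU : ν p ∈ U := mem_of_dense hU hg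
      have h := (ν ∣_ U).isOpenEmbedding.injective (a₁ := (⟨p, hpU⟩ : ↥((ν ⁻¹ᵁ U : C'.Opens) : Scheme.{u})))
        (a₂ := ⟨q, show ν q ∈ U from hpq ▸ hpU⟩) (Subtype.ext (by
          simp only [morphismRestrict_base]; exact hpq))
      rw [show p = q from congrArg Subtype.val h]
  · intro O W e f
    let s : Γ(C', ν ⁻¹ᵁ W) := (ψ ≫ ν).appLE O (ν ⁻¹ᵁ W) e f
    have hclosed : ∀ x ∈ W, IsClosed ({x} : Set C) → ∃ (V : C.Opens) (hVW : V ≤ W), x ∈ V ∧ ∃ b : Γ(C, V),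
        ν.app V b = res (show ν ⁻¹ᵁ V ≤ ν ⁻¹ᵁ W from fun z hz => hVW hz) s := by
      intro x hx hcl
      obtain ⟨y₀, hy₀⟩ := ν.surjective x
      have hz : ν (ψ y₀) ∈ O := e (show ν y₀ ∈ W from hy₀.symm ▸ hx)
      have hzcl : IsClosed ({ν (ψ y₀)} : Set C) := by
        have := (ψ ≫ ν).isClosedMap _ (isClosed_point (k := k) ν hν (hy₀.symm ▸ hcl))
        rwa [Set.image_singleton] at this
      obtain ⟨t, ht⟩ := exists_val k f hz hzcl
      refine exists_preimage_near ν hν hgen U hU hd s hx hcl t fun y hy => ?_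
      have hψy : ν (ψ y) = ν (ψ y₀) := hconst' x hcl y y₀ hy hy₀
      have h1 : HasVal k ((ψ ≫ ν).app O f) y t := by
        refine HasVal.pull (ψ ≫ ν) (by rw [Category.assoc, hν, hψ]) ?_
        · show HasVal k f ((ψ ≫ ν) y) t
          rw [Scheme.Hom.comp_apply, hψy]; exact ht
      exact (hasVal_res e (show ν y ∈ W from hy.symm ▸ hx)).2 h1
    choose! V hVW hxV b hb using hclosed
    let ι := {x : C // x ∈ W ∧ IsClosed ({x} : Set C)}
    obtain ⟨r, hr, -⟩ := C.sheaf.existsUnique_gluing' (fun x : ι => V x.1) W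
      (fun x => homOfLE (hVW x.1 x.2.1 x.2.2)) (fun z hz => by
        obtain ⟨x, ⟨hxW, hxz⟩, hxc⟩ := nonempty_inter_closedPoints (Z := (W : Set C) ∩ closure {z})
          ⟨z, hz, subset_closure rfl⟩ (W.isOpen.isLocallyClosed.inter isClosed_closure.isLocallyClosed)
        exact Opens.mem_iSup.2 ⟨⟨x, hxW, hxc⟩,
          (specializes_iff_mem_closure.2 hxz).mem_open (V x).2 (hxV x hxW hxc)⟩)
      (fun x => b x.1) (by
        intro p q
        refine app_injective_of_surjective ν _ ?_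
        refine (congrArg (fun f => f.hom (b p.1)) (ν.naturality (Opens.infLELeft (V p.1) (V q.1)).op)).trans ?_
        refine Eq.trans ?_ (congrArg (fun f => f.hom (b q.1)) (ν.naturality (Opens.infLERight (V p.1) (V q.1)).op)).symm
        show res (show ν ⁻¹ᵁ (V p.1 ⊓ V q.1) ≤ ν ⁻¹ᵁ V p.1 from fun z hz => hz.1) (ν.app _ (b p.1)) =
          res (show ν ⁻¹ᵁ (V p.1 ⊓ V q.1) ≤ ν ⁻¹ᵁ V q.1 from fun z hz => hz.2) (ν.app _ (b q.1))
        rw [hb p.1 p.2.1 p.2.2, hb q.1 q.2.1 q.2.2, GrothLib.Ample.res_res, GrothLib.Ample.res_res])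
    refine ⟨r, ?_⟩
    refine C'.sheaf.eq_of_locally_eq' (fun x : ι => ν ⁻¹ᵁ V x.1) _
      (fun x => homOfLE fun z hz => hVW x.1 x.2.1 x.2.2 hz) (fun z hz => by
        obtain ⟨x, ⟨hxW, hxz⟩, hxc⟩ := nonempty_inter_closedPoints (Z := (W : Set C) ∩ closure {ν z})
          ⟨ν z, hz, subset_closure rfl⟩ (W.isOpen.isLocallyClosed.inter isClosed_closure.isLocallyClosed)
        exact Opens.mem_iSup.2 ⟨⟨x, hxW, hxc⟩,
          (specializes_iff_mem_closure.2 hxz).mem_open (V x).2 (hxV x hxW hxc)⟩) _ _ fun x => ?_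
    refine (congrArg (fun f => f.hom r) (ν.naturality (homOfLE (hVW x.1 x.2.1 x.2.2)).op)).symm.trans ?_
    show ν.app _ (C.presheaf.map _ r) = _
    rw [show C.presheaf.map _ r = b x.1 from hr x]
    exact hb x.1 x.2.1 x.2.2

end GrothLib.GenusZeroDesc9
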